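import Groth.Prelude.Def_Frob
import Mathlib.AlgebraicGeometry.IdealSheaf.Functorial
import Mathlib.FieldTheory.IsAlgClosed.AlgebraicClosure
import Mathlib.CategoryTheory.Endomorphism
import Groth.Agent.FpqcDescent.IdealGlue
import Groth.Agent.BlowUpLib.Cartier
import Mathlib.AlgebraicGeometry.Morphisms.Flat
import Mathlib.AlgebraicGeometry.Noetherian
import Mathlib.FieldTheory.Perfect
import Mathlib.FieldTheory.IsAlgClosed.Basic
import Mathlib.RingTheory.Nakayama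

/-!
Frobenius-twisted correspondences: contraction on an open, and open fixed loci.
-/

set_option autoImplicit false
set_option backward.isDefEq.respectTransparency false
set_option linter.style.haveILetI false
universe u

namespace Groth.Agent.LVFrob

open AlgebraicGeometry CategoryTheory Limits TopologicalSpace
open Groth.Agent


theorem frob_pow (X : Scheme.{u}) (p : ℕ) [Fact p.Prime] [FrobSch.IsCharP X p] (m : ℕ) :
    (∀ z, End.asHom (End.of (FrobSch.frob X p) ^ m) z = z) ∧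
    ∀ (U : X.Opens) (e : U ≤ End.asHom (End.of (FrobSch.frob X p) ^ m) ⁻¹ᵁ U) (s : Γ(X, U)),
      (Scheme.Hom.appLE (End.asHom (End.of (FrobSch.frob X p) ^ m)) U U e).hom s = s ^ (p ^ m) := by
  induction m with
  | zero =>
    refine ⟨fun z => rfl, fun U e s => ?_⟩
    show ((𝟙 X : X ⟶ X).appLE U U e).hom s = _
    rw [pow_zero, pow_one]
    simp [Scheme.Hom.appLE]
    show (X.presheaf.map (𝟙 (Opposite.op U))).hom s = s
    rw [X.presheaf.map_id]
    rfl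
  | succ m ih =>
    have hs : End.asHom (End.of (FrobSch.frob X p) ^ (m + 1)) = FrobSch.frob X p ≫ End.asHom (End.of (FrobSch.frob X p) ^ m) := by
      rw [pow_succ]
      rfl
    refine ⟨fun z => ?_, fun U e s => ?_⟩
    · rw [hs, Scheme.Hom.comp_apply, FrobSch.frob_apply, ih.1]
    · have e1 : U ≤ End.asHom (End.of (FrobSch.frob X p) ^ m) ⁻¹ᵁ U := fun z hz => by
        show End.asHom (End.of (FrobSch.frob X p) ^ m) z ∈ U
        rw [ih.1]
        exact hz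
      have key : ∀ (g : X ⟶ X) (e0 : U ≤ g ⁻¹ᵁ U), g = FrobSch.frob X p ≫ End.asHom (End.of (FrobSch.frob X p) ^ m) →
          (g.appLE U U e0).hom s = s ^ (p ^ (m + 1)) := by
        rintro g e0 rfl
        rw [← Scheme.Hom.appLE_comp_appLE (FrobSch.frob X p) _ U U U e1 le_rfl, CommRingCat.comp_apply, ih.2]
        show (X.presheaf.map (𝟙 (Opposite.op U))).hom ((s ^ p ^ m) ^ p) = _
        rw [X.presheaf.map_id, ← pow_mul, pow_succ]
        rfl
      exact key _ e hs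

theorem mem_radical_of_forall {X : Scheme.{u}} {W : X.Opens} (hW : IsAffineOpen W) (a : Ideal Γ(X, W)) (c : Γ(X, W))
    (h : ∀ z, z ∈ X.zeroLocus (U := W) (a : Set Γ(X, W)) → z ∈ W → z ∉ X.basicOpen c) : c ∈ a.radical := by
  rw [Ideal.radical_eq_sInf, Ideal.mem_sInf]
  rintro P ⟨hP, hPp⟩
  let Q : PrimeSpectrum Γ(X, W) := ⟨P, hPp⟩
  have hmem : ∀ s, hW.fromSpec Q ∈ X.basicOpen s ↔ s ∉ P := fun s => by
    show Q ∈ hW.fromSpec ⁻¹ᵁ X.basicOpen s ↔ _
    rw [hW.fromSpec_preimage_basicOpen]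
    rfl
  by_contra hc
  refine h (hW.fromSpec Q) ((Scheme.mem_zeroLocus_iff _ _ _).mpr fun s hs hm => (hmem s).mp hm (hP hs)) ?_ ((hmem c).mpr hc)
  have : hW.fromSpec Q ∈ Set.range hW.fromSpec := ⟨Q, rfl⟩
  rwa [hW.range_fromSpec] at this

theorem qth_root {C C₀ : Scheme.{u}} (p : ℕ) [Fact p.Prime] (k₀ : Type u) [Field k₀] (K : Type u) [Field K]
    [Algebra k₀ K] [ExpChar K p] [PerfectRing K p] (f₀ : C₀ ⟶ Spec (CommRingCat.of k₀)) [FrobSch.IsCharP C₀ p]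
    [FrobSch.IsCharP C p] (πC₀ : C ⟶ C₀) (πK : C ⟶ Spec (CommRingCat.of K))
    (hC : IsPullback πC₀ πK f₀ (Spec.map (CommRingCat.ofHom (algebraMap k₀ K)))) (m : ℕ) (Fr : C ⟶ C)
    (h₀ : Fr ≫ πC₀ = πC₀ ≫ End.asHom (End.of (FrobSch.frob C₀ p) ^ m)) (hK : Fr ≫ πK = πK)
    (U₀ : C₀.affineOpens) (eW : πC₀ ⁻¹ᵁ U₀.1 ≤ Fr ⁻¹ᵁ (πC₀ ⁻¹ᵁ U₀.1)) (a : Γ(C, πC₀ ⁻¹ᵁ U₀.1)) :
    ∃ c, (Fr.appLE _ (πC₀ ⁻¹ᵁ U₀.1) eW).hom a = c ^ (p ^ m) := by
  let W := πC₀ ⁻¹ᵁ U₀.1
  let q := p ^ m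
  have hp0 : (p : Γ(C, W)) = 0 := FrobSch.natCast_eq_zero_app C p W
  let φ := (Fr.appLE W W eW).hom
  let S : Subring Γ(C, W) :=
    { carrier := {a | ∃ c, φ a = c ^ q}
      zero_mem' := ⟨0, by rw [map_zero, zero_pow (pow_ne_zero _ (Fact.out : p.Prime).ne_zero)]⟩
      one_mem' := ⟨1, by rw [map_one, one_pow]⟩
      mul_mem' := fun ⟨c, hc⟩ ⟨c', hc'⟩ => ⟨c * c', by rw [map_mul, hc, hc', mul_pow]⟩
      add_mem' := fun ⟨c, hc⟩ ⟨c', hc'⟩ => ⟨c + c', by
        rcases subsingleton_or_nontrivial Γ(C, W) with h | h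
        · exact Subsingleton.elim _ _
        · haveI : CharP Γ(C, W) p := (CharP.charP_iff_prime_eq_zero Fact.out).2 hp0
          rw [map_add, hc, hc', add_pow_char_pow]⟩
      neg_mem' := fun {x} ⟨c, hc⟩ => ⟨-c, by
        rcases subsingleton_or_nontrivial Γ(C, W) with h | h
        · exact Subsingleton.elim _ _
        · haveI : CharP Γ(C, W) p := (CharP.charP_iff_prime_eq_zero Fact.out).2 hp0
          rw [map_neg, hc]
          have := add_pow_char_pow (x := c) (y := -c) (p := p) (n := m)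
          rw [add_neg_cancel, zero_pow (pow_ne_zero _ (Fact.out : p.Prime).ne_zero)] at this
          linear_combination this⟩ }
  have hpo := (isIso_pushoutSection_iff hC (US := ⊤) (UX := U₀.1) (UT := ⊤) (UY := W) le_top le_top (by simp [W])).mp
    (isIso_pushoutSection_of_isAffineOpen hC le_top le_top (by simp [W]) (isAffineOpen_top _) (isAffineOpen_top _) U₀.2)
  let g₁ := πC₀.appLE U₀.1 W le_rfl
  let g₂ := πK.appLE ⊤ W le_top
  have h1 : ∀ b, g₁.hom b ∈ S := fun b => by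
    refine ⟨g₁.hom b, ?_⟩
    have e1 : U₀.1 ≤ End.asHom (End.of (FrobSch.frob C₀ p) ^ m) ⁻¹ᵁ U₀.1 := fun z hz => by
      show End.asHom (End.of (FrobSch.frob C₀ p) ^ m) z ∈ U₀.1
      rw [(frob_pow C₀ p m).1]
      exact hz
    have key : ∀ (g : C ⟶ C₀) (e : W ≤ g ⁻¹ᵁ U₀.1), g = πC₀ ≫ End.asHom (End.of (FrobSch.frob C₀ p) ^ m) →
        (g.appLE U₀.1 W e).hom b = (g₁.hom b) ^ q := by
      rintro g e rfl
      rw [← Scheme.Hom.appLE_comp_appLE πC₀ _ U₀.1 U₀.1 W e1 le_rfl, CommRingCat.comp_apply, (frob_pow C₀ p m).2, map_pow]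
    show φ (g₁.hom b) = _
    rw [← key (Fr ≫ πC₀) (fun z hz => eW hz) h₀, ← Scheme.Hom.appLE_comp_appLE Fr πC₀ U₀.1 W W le_rfl eW]
    rfl
  have h2 : ∀ t, g₂.hom t ∈ S := fun t => by
    let α := (Scheme.ΓSpecIso (CommRingCat.of K))
    obtain ⟨t', ht'⟩ := (bijective_iterateFrobenius K p m).2 (α.hom t)
    refine ⟨g₂.hom (α.inv t'), ?_⟩
    have key : ∀ (g : C ⟶ Spec (CommRingCat.of K)) (e : W ≤ g ⁻¹ᵁ ⊤), g = πK →
        (g.appLE ⊤ W e).hom t = g₂.hom t := by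
      rintro g e rfl; rfl
    show φ (g₂.hom t) = _
    rw [← map_pow, ← map_pow, ← iterateFrobenius_def p m t', ht', Iso.hom_inv_id_apply]
    refine Eq.trans ?_ (key (Fr ≫ πK) le_top hK)
    rw [← Scheme.Hom.appLE_comp_appLE Fr πK ⊤ W W le_top eW]
    rfl
  let i₁ : Γ(C₀, U₀.1) ⟶ CommRingCat.of S := CommRingCat.ofHom (g₁.hom.codRestrict S h1)
  let i₂ : Γ(Spec (CommRingCat.of K), ⊤) ⟶ CommRingCat.of S := CommRingCat.ofHom (g₂.hom.codRestrict S h2)
  let incl : CommRingCat.of S ⟶ Γ(C, W) := CommRingCat.ofHom S.subtype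
  have hmono : Mono incl := ConcreteCategory.mono_of_injective _ Subtype.val_injective
  have hd : hpo.desc i₁ i₂ (by rw [← cancel_mono incl, Category.assoc, Category.assoc]; exact hpo.w) ≫ incl = 𝟙 _ := by
    apply hpo.hom_ext
    · rw [IsPushout.inl_desc_assoc, Category.comp_id]; rfl
    · rw [IsPushout.inr_desc_assoc, Category.comp_id]; rfl
  have : a ∈ S := by
    rw [show a = incl ((hpo.desc i₁ i₂ _).hom a) from (congr($hd a)).symm]
    exact Subtype.prop _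
  exact this


theorem contract_on_open {C C₀ X : Scheme.{u}} (p : ℕ) [Fact p.Prime]
    (k₀ : Type u) [Field k₀] [CharP k₀ p]
    (K : Type u) [Field K] [Algebra k₀ K] [IsAlgClosure k₀ K]
    (f₀ : C₀ ⟶ Spec (CommRingCat.of k₀)) [FrobSch.IsCharP C₀ p]
    (πC₀ : C ⟶ C₀) (πK : C ⟶ Spec (CommRingCat.of K))
    (hC : IsPullback πC₀ πK f₀ (Spec.map (CommRingCat.ofHom (algebraMap k₀ K))))
    (m : ℕ) (Fr : C ⟶ C)
    (hFr₀ : Fr ≫ πC₀ = πC₀ ≫ End.asHom (End.of (FrobSch.frob C₀ p) ^ m))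
    (hFrK : Fr ≫ πK = πK)
    (c₁ c₂ : C ⟶ X) (I : X.IdealSheafData) (d : ℕ)
    (hd : (I.comap c₂).radical ^ d ≤ I.comap c₂) (hn : d < p ^ m) (Wc : C.Opens)
    (hinv : ∀ z ∈ Wc, c₂ z ∈ I.support → (Fr ≫ c₁) z ∈ I.support) :
    I.comap (Wc.ι ≫ Fr ≫ c₁) ≤ I.comap (Wc.ι ≫ c₂) ∧
      I.comap (Wc.ι ≫ Fr ≫ c₁) ^ d ≤ I.comap (Wc.ι ≫ c₂) ^ (d + 1) := by
  classical
  let q := p ^ m
  haveI : CharP K p := charP_of_injective_algebraMap (algebraMap k₀ K).injective p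
  haveI : IsAlgClosed K := IsAlgClosure.isAlgClosed k₀
  haveI : ExpChar K p := ExpChar.prime Fact.out
  haveI : IsAffineHom πC₀ := MorphismProperty.of_isPullback hC.flip inferInstance
  haveI : FrobSch.IsCharP C p := FrobSch.IsCharP.of_hom πC₀ p
  let F := End.asHom (End.of (FrobSch.frob C₀ p) ^ m)
  have hF : ∀ z, F z = z := fun z => (frob_pow C₀ p m).1 z
  let L := I.comap (Fr ≫ c₁)
  let J := I.comap c₂
  have key : ∀ (U₀ : C₀.affineOpens) (V : C.affineOpens), V.1 ≤ πC₀ ⁻¹ᵁ U₀.1 → V.1 ≤ Wc →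
      L.ideal V ≤ J.radical.ideal V ^ q := by
    intro U₀ V hV hVW
    let W : C.affineOpens := ⟨πC₀ ⁻¹ᵁ U₀.1, U₀.2.preimage _⟩
    have eW : W.1 ≤ Fr ⁻¹ᵁ W.1 := fun z hz => by
      show πC₀ (Fr z) ∈ U₀.1
      rw [← Scheme.Hom.comp_apply, hFr₀, Scheme.Hom.comp_apply, hF]
      exact hz
    have hroot : ∀ a, ∃ c, (Fr.appLE W.1 W.1 eW).hom a = c ^ q :=
      qth_root p k₀ K f₀ πC₀ πK hC m Fr hFr₀ hFrK U₀ eW
    have hLW : L.ideal W = Ideal.map (Fr.appLE W.1 W.1 eW).hom ((I.comap c₁).ideal W) := by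
      rw [show L.ideal W = ((I.comap c₁).comap Fr).ideal W by rw [← Scheme.IdealSheafData.comap_comp],
        FpqcDescent.ideal_comap_appLE _ Fr W W eW]
    rw [← L.map_ideal (U := V) (V := W) hV, hLW, Ideal.map_map, Ideal.map_le_iff_le_comap]
    intro a ha
    obtain ⟨c, hc⟩ := hroot a
    rw [Ideal.mem_comap, RingHom.comp_apply, hc, map_pow]
    refine Ideal.pow_mem_pow ?_ _
    rw [Scheme.IdealSheafData.radical_ideal]
    refine mem_radical_of_forall V.2 _ _ fun z hz hzV hzc => ?_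
    have hzJ : z ∈ J.support := (J.mem_support_iff_of_mem (U := V) hzV).mpr hz
    have hzL : z ∈ L.support := by
      rw [show L = I.comap (Fr ≫ c₁) from rfl, Scheme.IdealSheafData.support_comap]
      refine hinv z (hVW hzV) ?_
      rw [show J = I.comap c₂ from rfl, Scheme.IdealSheafData.support_comap] at hzJ
      exact hzJ
    have hcq : (C.presheaf.map (homOfLE hV).op).hom (c ^ q) ∈ L.ideal V := by
      rw [← L.map_ideal (U := V) (V := W) hV, ← hc, hLW]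
      exact Ideal.mem_map_of_mem _ (Ideal.mem_map_of_mem _ ha)
    refine (Scheme.mem_zeroLocus_iff _ _ _).mp ((L.mem_support_iff_of_mem (U := V) hzV).mp hzL) _ hcq ?_
    rw [map_pow, C.basicOpen_pow _ (pow_pos (Fact.out : p.Prime).pos _)]
    exact hzc
  let T := Σ' (U₀ : C₀.affineOpens) (V : Wc.toScheme.affineOpens), Wc.ι ''ᵁ V.1 ≤ πC₀ ⁻¹ᵁ U₀.1
  have hcov : ⨆ t : T, t.2.1.1 = ⊤ := top_le_iff.mp fun z _ => by
    obtain ⟨U, hU, hzU, -⟩ := exists_isAffineOpen_mem_and_subset (X := C₀) (U := ⊤) (trivial : πC₀ (Wc.ι z) ∈ (⊤ : C₀.Opens))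
    obtain ⟨V, hV, hzV, hVU⟩ := exists_isAffineOpen_mem_and_subset (X := Wc.toScheme) (x := z) (U := Wc.ι ⁻¹ᵁ πC₀ ⁻¹ᵁ U) hzU
    refine TopologicalSpace.Opens.mem_iSup.mpr ⟨⟨⟨U, hU⟩, ⟨V, hV⟩, ?_⟩, hzV⟩
    rintro _ ⟨w, hw, rfl⟩
    exact hVU hw
  have loc : ∀ (M : C.IdealSheafData) (t : T), (M.comap Wc.ι).ideal t.2.1 =
      Ideal.map (Wc.ι.appLE (Wc.ι ''ᵁ t.2.1.1) t.2.1.1 (fun z hz => ⟨z, hz, rfl⟩)).hom
        (M.ideal ⟨_, t.2.1.2.image_of_isOpenImmersion Wc.ι⟩) := fun M t =>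
    FpqcDescent.ideal_comap_appLE M Wc.ι ⟨_, t.2.1.2.image_of_isOpenImmersion Wc.ι⟩ t.2.1 _
  have hsub : ∀ t : T, Wc.ι ''ᵁ t.2.1.1 ≤ Wc := fun t => by
    rintro _ ⟨w, _, rfl⟩
    exact w.2
  rw [Scheme.IdealSheafData.comap_comp (g := Fr ≫ c₁), Scheme.IdealSheafData.comap_comp (g := c₂)]
  constructor
  · refine Scheme.IdealSheafData.le_of_iSup_eq_top (fun t : T => t.2.1) hcov fun t => ?_
    rw [loc, loc]
    refine Ideal.map_mono ((key t.1 _ t.2.2 (hsub t)).trans ((Ideal.pow_le_pow_right hn.le).trans ?_))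
    exact Scheme.IdealSheafData.le_def.mp hd _
  · refine Scheme.IdealSheafData.le_of_iSup_eq_top (fun t : T => t.2.1) hcov fun t => ?_
    simp only [Scheme.IdealSheafData.ideal_pow, Pi.pow_apply]
    rw [loc, loc, ← Ideal.map_pow, ← Ideal.map_pow]
    refine Ideal.map_mono ((Ideal.pow_right_mono (key t.1 _ t.2.2 (hsub t)) d).trans ?_)
    rw [← pow_mul, mul_comm q d, pow_mul]
    refine (Ideal.pow_right_mono ?_ q).trans (Ideal.pow_le_pow_right hn)
    exact Scheme.IdealSheafData.le_def.mp hd _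

/-- The fixed points over a zero locus near which the correspondence contracts form an open set. -/
theorem isOpen_preimage_of_contract {C X Fx : Scheme.{u}} [IsLocallyNoetherian Fx] (c₁ c₂ : C ⟶ X)
    (i : Fx ⟶ C) (δ : Fx ⟶ X) (h1 : i ≫ c₁ = δ) (h2 : i ≫ c₂ = δ)
    (I : X.IdealSheafData) (W : C.Opens) (hW : Set.range i.base ⊆ (W : Set C))
    (k₀ : ℕ) (hpow : I.comap (W.ι ≫ c₁) ^ k₀ ≤ I.comap (W.ι ≫ c₂) ^ (k₀ + 1)) :
    IsOpen (δ.base ⁻¹' (I.support : Set X)) := by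
  let l : Fx ⟶ W.toScheme := IsOpenImmersion.lift W.ι i (by rw [Scheme.Opens.range_ι]; exact hW)
  have hl : l ≫ W.ι = i := IsOpenImmersion.lift_fac _ _ _
  let J := I.comap δ
  have hJ1 : (I.comap (W.ι ≫ c₁)).comap l = J := by rw [← Scheme.IdealSheafData.comap_comp, reassoc_of% hl, h1]
  have hJ2 : (I.comap (W.ι ≫ c₂)).comap l = J := by rw [← Scheme.IdealSheafData.comap_comp, reassoc_of% hl, h2]
  have hpowc : ∀ (K : W.toScheme.IdealSheafData) (m : ℕ), (K ^ m).comap l = K.comap l ^ m := by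
    intro K m
    induction m with
    | zero => rw [pow_zero, pow_zero]; exact Scheme.IdealSheafData.comap_top l
    | succ m ih => rw [pow_succ, pow_succ, Groth.Agent.BlowUpLib.comap_mul, ih]
  have hJle : J ^ k₀ ≤ J ^ (k₀ + 1) := by
    have := Scheme.IdealSheafData.comap_mono l hpow
    simp only [hpowc, hJ1, hJ2] at this
    exact this
  have hopen : IsOpen (J.support : Set Fx) := by
    refine isOpen_iff_forall_mem_open.mpr fun x hx => ?_
    obtain ⟨U, hU, hxU, -⟩ := exists_isAffineOpen_mem_and_subset (X := Fx) (U := ⊤) (trivial : x ∈ (⊤ : Fx.Opens))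
    haveI := IsLocallyNoetherian.component_noetherian (X := Fx) ⟨U, hU⟩
    let a := J.ideal ⟨U, hU⟩
    have hle' : a ^ k₀ ≤ a • a ^ k₀ := by
      have := Scheme.IdealSheafData.le_def.mp hJle ⟨U, hU⟩
      simp only [Scheme.IdealSheafData.ideal_pow, Pi.pow_apply] at this
      rwa [pow_succ'] at this
    obtain ⟨r, hr1, hr0⟩ := Submodule.exists_sub_one_mem_and_smul_eq_zero_of_fg_of_le_smul a (a ^ k₀) (IsNoetherian.noetherian _) hle'
    have hnil : ∀ s ∈ a, Fx.basicOpen r ⊓ Fx.basicOpen s = ⊥ := by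
      intro s hs
      have h0 : r * s ^ (k₀ + 1) = 0 := hr0 _ (Ideal.pow_le_pow_right k₀.le_succ (Ideal.pow_mem_pow hs _))
      rw [← Fx.basicOpen_pow s (Nat.succ_pos k₀), ← Fx.basicOpen_mul, h0, Scheme.basicOpen_zero]
    have hz : ∀ s ∈ a, x ∉ Fx.basicOpen s := (Scheme.mem_zeroLocus_iff _ _ _).mp ((J.mem_support_iff_of_mem (U := ⟨U, hU⟩) hxU).mp hx)
    have hxr : x ∈ Fx.basicOpen r := by
      have hn := hz _ hr1
      rw [Scheme.mem_basicOpen _ _ _ hxU, map_sub, map_one] at hn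
      rw [Scheme.mem_basicOpen _ _ _ hxU]
      by_contra hu
      refine hn ?_
      exact (IsLocalRing.isUnit_or_isUnit_of_isUnit_add (a := Fx.presheaf.germ U x hxU r) (b := -(Fx.presheaf.germ U x hxU r - 1)) (by simp)).elim (fun h => absurd h hu) (fun h => IsUnit.neg_iff _ |>.mp h)
    refine ⟨Fx.basicOpen r, fun y hy => ?_, (Fx.basicOpen r).2, hxr⟩
    have hyU : y ∈ U := Fx.basicOpen_le r hy
    refine (J.mem_support_iff_of_mem (U := ⟨U, hU⟩) hyU).mpr ((Scheme.mem_zeroLocus_iff _ _ _).mpr fun s hs h => ?_)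
    exact (hnil s hs).le ⟨hy, h⟩
  have hsupp : (J.support : Set Fx) = δ.base ⁻¹' (I.support : Set X) := by
    rw [show J = I.comap δ from rfl, Scheme.IdealSheafData.support_comap]
    rfl
  rw [← hsupp]
  exact hopen

end Groth.Agent.LVFrob
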